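import Cfsg.Agent.H0.TC
set_option maxRecDepth 100000
namespace H0.TCJ2p1
open H0
noncomputable def r0 : TC.WTr := (.node (.node (.node (.node (.node (.node (.leaf [1] 0 0 false) (.leaf [8, 4, 2, 6, 2, 7] 25 4 false)) (.leaf [8, 3, 5, 8, 3] 17 2 true)) (.node (.node (.leaf [7, 5, 8, 1, 7, 3] 26 3 false) (.leaf [3, 5, 8, 3, 3] 17 3 true)) (.leaf [4, 6, 7, 3, 8] 16 3 true))) (.node (.node (.node (.leaf [1] 0 0 false) (.leaf [6, 8, 4, 2, 6, 2] 25 3 false)) (.leaf [7, 5, 4, 5] 12 4 true)) (.node (.leaf [5, 0, 3, 1, 2, 3] 31 6 true) (.leaf [6] 5 0 false)))) (.node (.node (.node (.node (.leaf [0, 3, 6, 0, 6, 3] 28 2 true) (.leaf [3, 2, 4, 5, 7, 2] 30 0 true)) (.leaf [4] 3 0 false)) (.node (.node (.leaf [0, 2, 1, 5, 7, 3] 27 0 false) (.leaf [7] 7 1 false)) (.leaf [8, 2, 5, 2, 3, 7] 25 2 true))) (.node (.node (.node (.leaf [6, 2, 4, 2, 0, 4] 31 5 false) (.leaf [7] 7 1 false)) (.leaf [5, 4, 7, 5]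 12 2 true)) (.node (.leaf [2] 2 0 false) (.leaf [4, 7, 4, 4, 7] 17 0 false))))) (.node (.node (.node (.node (.node (.leaf [8, 1, 8, 3, 0, 2, 7] 33 3 false) (.leaf [5] 5 1 false)) (.leaf [6, 3, 6, 8] 12 0 false)) (.node (.node (.leaf [2, 3, 2, 5, 0, 3] 31 3 true) (.leaf [5, 4, 6, 7, 3] 16 2 true)) (.leaf [3, 6, 7, 4, 8] 16 0 false))) (.node (.node (.node (.leaf [2, 4, 8, 6, 0, 2] 27 5 true) (.leaf [8] 7 0 false)) (.leaf [1, 4, 6, 4, 1, 4, 6] 32 2 true)) (.node (.leaf [1, 2, 1, 3, 2, 1] 19 3 true) (.leaf [8, 0, 4, 8, 0, 7] 26 1 true)))) (.node (.node (.node (.node (.leaf [3, 0, 5, 4, 0, 7] 29 4 true) (.leaf [3, 1, 7, 5, 8, 1] 26 1 false)) (.leaf [3] 3 1 false)) (.node (.leaf [3, 7, 5, 8, 2, 5] 25 6 true) (.leaf [6] 5 0 false))) (.node (.node (.node (.leaf [1, 1, 1, 1, 1, 1] 18 0 true) (.leaf [3, 6, 3, 6] 12 4 false)) (.leaf [3] 3 1 false)) (.node (.leaf [0, 0, 3, 6, 0, 6] 28 1 true) (.leaf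 [3, 6, 8, 3] 12 1 false))))))
noncomputable def r1 : TC.WTr := (.node (.node (.node (.node (.node (.node (.leaf [2, 0, 2, 0, 2, 4] 19 0 false) (.leaf [5] 5 1 false)) (.leaf [8, 5, 4, 6, 7] 16 1 true)) (.node (.node (.leaf [4, 1, 8, 1, 3, 6] 29 0 false) (.leaf [4, 2, 6, 2, 7, 6] 25 5 false)) (.leaf [4, 0, 7, 0, 3, 0] 29 0 true))) (.node (.node (.node (.leaf [1] 0 0 false) (.leaf [8] 7 0 false)) (.leaf [0, 2, 3, 2, 1] 24 0 true)) (.node (.leaf [1, 2, 0, 2, 1, 2, 0] 22 1 false) (.leaf [5] 5 1 false)))) (.node (.node (.node (.node (.leaf [3, 1, 2, 3, 2, 5] 31 1 true) (.leaf [2, 7, 3, 2, 4, 5] 30 5 true)) (.leaf [4] 3 0 false)) (.node (.node (.leaf [1, 1, 1, 2, 1, 1, 6, 1] 20 1 false) (.leaf [7] 7 1 false)) (.leaf [8, 3, 3, 8, 3] 17 5 true))) (.node (.node (.node (.leaf [5, 7, 3, 2, 0, 2] 27 3 false) (.leaf [8, 8] 9 0 true)) (.leaf [3] 3 1 false)) (.node (.leaf [0, 2, 4, 2, 1] 24 5 false) (.leaf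 [1, 2, 1, 1, 1, 2, 1, 1] 20 8 false))))) (.node (.node (.node (.node (.node (.leaf [2, 3, 2, 1, 4] 24 1 true) (.leaf [6, 8, 0, 4, 8, 0] 26 0 true)) (.leaf [4] 3 0 false)) (.node (.node (.leaf [2] 2 0 false) (.leaf [7] 7 1 false)) (.leaf [8, 1, 7, 3, 1, 7] 26 5 false))) (.node (.node (.node (.leaf [8, 1, 3, 6, 1, 4] 29 2 false) (.leaf [8] 7 0 false)) (.leaf [4, 4, 4] 10 0 true)) (.node (.leaf [7, 6, 8, 4, 2, 6] 25 2 false) (.leaf [8, 3, 6, 3] 12 3 false)))) (.node (.node (.node (.node (.leaf [7, 0, 3, 0, 5, 4] 29 2 true) (.leaf [3, 2, 0, 2, 1, 5] 27 5 false)) (.leaf [5, 1, 5, 4, 1, 1] 28 5 false)) (.node (.leaf [8, 6, 3, 2, 4, 8] 30 0 false) (.leaf [6] 5 0 false))) (.node (.node (.node (.leaf [3, 0, 2, 4, 2] 24 4 false) (.leaf [1, 3, 6, 1, 4, 1] 29 3 false)) (.leaf [3] 3 1 false)) (.node (.leaf [5, 8, 3, 3, 8] 17 4 true) (.leaf [1, 4, 1, 8, 1, 3] 29 6 false))))))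
noncomputable def r2 : TC.WTr := (.node (.node (.node (.node (.node (.node (.leaf [5, 4, 0, 7, 0, 3] 29 6 true) (.leaf [0, 6, 3, 0, 0, 3] 28 5 true)) (.leaf [6, 8, 3, 6] 12 2 false)) (.node (.node (.leaf [8, 2, 1, 4, 7, 0, 7] 33 4 true) (.leaf [3, 0, 2, 7, 0, 8, 1] 33 6 false)) (.leaf [4, 5, 4, 7] 12 1 true))) (.node (.node (.node (.leaf [1] 0 0 false) (.leaf [5, 8, 2, 5, 2, 3] 25 1 true)) (.leaf [0, 2, 0, 2, 0, 2] 19 6 false)) (.node (.leaf [1, 3, 0, 2, 4] 24 3 false) (.leaf [6] 5 0 false)))) (.node (.node (.node (.node (.leaf [4, 8, 0, 7, 6, 8] 26 3 true) (.leaf [6, 4, 7, 4, 4] 17 5 false)) (.leaf [4] 3 0 false)) (.node (.node (.leaf [1, 4, 7, 0, 7, 1, 8] 33 6 true) (.leaf [7] 7 1 false)) (.leaf [4, 7, 5, 4] 12 3 true))) (.node (.node (.node (.leaf [3, 6, 1, 4, 1, 8] 29 4 false) (.leaf [0, 7, 6, 8, 0, 4] 26 5 true)) (.leaf [2, 6, 2, 7, 6, 8] 25 6 false)) (.node (.leaf [4] 3 0 false) (.leaf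 [0, 2, 1, 2, 4, 8] 27 2 true))))) (.node (.node (.node (.node (.node (.leaf [7, 6, 8, 0, 4, 8] 26 6 true) (.leaf [8] 7 0 false)) (.leaf [4] 3 0 false)) (.node (.node (.leaf [7, 3, 1, 7, 5, 8] 26 0 false) (.leaf [6, 3, 2, 4, 8, 2] 30 1 false)) (.leaf [5, 5, 5] 11 0 false))) (.node (.node (.node (.leaf [3, 2, 1, 2, 1, 2] 19 6 true) (.leaf [8] 7 0 false)) (.leaf [8, 5, 3, 6, 7] 16 4 false)) (.node (.leaf [7, 3, 2, 4, 5, 7] 30 6 true) (.leaf [4, 1, 4, 6, 4, 1, 4] 32 1 true)))) (.node (.node (.node (.node (.leaf [6, 0, 6, 0, 6] 23 1 true) (.leaf [5, 8, 1, 7, 3, 1] 26 4 false)) (.leaf [2, 1, 3, 0, 2] 24 2 false)) (.node (.leaf [0, 2, 1, 2, 0, 2, 1] 22 3 false) (.leaf [6] 5 0 false))) (.node (.node (.node (.leaf [4, 5, 1, 5, 4, 1] 28 4 false) (.leaf [2, 5, 2, 3, 7, 5] 25 3 true)) (.leaf [3] 3 1 false)) (.node (.leaf [3, 3, 3] 10 0 false) (.leaf [2, 4, 2, 0, 4, 1] 31 6 false))))))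
noncomputable def r3 : TC.WTr := (.node (.node (.node (.node (.node (.node (.leaf [4, 1, 6, 2, 4, 2] 31 3 false) (.leaf [5] 5 1 false)) (.leaf [2, 1, 4, 0, 2] 24 3 true)) (.node (.node (.leaf [2, 1, 2, 1, 3, 2] 19 2 true) (.leaf [3, 3, 8, 3, 5] 17 0 true)) (.leaf [0, 3, 1, 2, 3, 2] 31 0 true))) (.node (.node (.node (.leaf [0] 0 1 false) (.leaf [8] 7 0 false)) (.leaf [4, 7, 6, 4, 7] 17 3 false)) (.node (.leaf [0, 4, 1, 6, 2, 4] 31 2 false) (.leaf [2, 7, 6, 8, 4, 2] 25 1 false)))) (.node (.node (.node (.node (.leaf [2, 4, 2, 1, 3] 24 0 false) (.leaf [4, 8, 5, 3, 6] 16 3 false)) (.leaf [4] 3 0 false)) (.node (.leaf [4, 8, 2, 8, 6, 3] 30 4 false) (.leaf [3, 0, 3, 5, 3, 0, 3] 32 2 false))) (.node (.node (.node (.leaf [4, 0, 2, 3, 2] 24 5 true) (.leaf [6, 0, 2, 1, 2, 4] 27 1 true)) (.leaf [3] 3 1 false)) (.node (.leaf [6, 7, 4, 8, 5] 16 1 false) (.leaf [6, 6, 6] 11 0 true))))) (.node (.node (.node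 (.node (.node (.leaf [3, 6, 0, 6, 3, 0] 28 3 true) (.leaf [7, 7] 9 0 false)) (.leaf [4] 3 0 false)) (.node (.node (.leaf [1, 4, 0, 2, 3] 24 4 true) (.leaf [7] 7 1 false)) (.leaf [2, 3, 7, 5, 8, 2] 25 5 true))) (.node (.node (.node (.leaf [5, 1, 5, 1, 5] 23 0 false) (.leaf [8] 7 0 false)) (.leaf [8, 0, 7, 6, 8, 0] 26 4 true)) (.node (.leaf [5, 2, 3, 7, 5, 8] 25 4 true) (.leaf [3, 2, 4, 8, 2, 8] 30 2 false)))) (.node (.node (.node (.node (.leaf [2, 0, 2, 4, 0, 2] 19 2 false) (.leaf [5, 4, 5, 4] 12 0 true)) (.leaf [1, 1, 4, 5, 1, 5] 28 2 false)) (.node (.leaf [3, 2, 5, 0, 3, 1] 31 4 true) (.leaf [6] 5 0 false))) (.node (.node (.node (.leaf [4, 6, 4, 1, 4, 6, 4] 32 3 true) (.leaf [5, 3, 6, 7, 4] 16 5 false)) (.leaf [6] 5 0 false)) (.node (.leaf [2, 1, 2, 1, 2, 1] 19 0 true) (.leaf [7, 3, 8, 5, 4] 16 5 true))))))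
noncomputable def tS : Tr := (.leaf (nat_lit 0xfff6526a18118d56d86d90e76526d9fff1a10d495769252150895858587bfff61069e5c69970d47548c948e83dfff6e35d41b51f460465c094610661fff18e81909220d7db81a61e6a1816fff8597766de71d09211175c716488fff6e155391a09161e4ca88e7513e3fff08d41655d4417c484f49184c554fff08b1961b01ef5565e1661859591fff49a40308b4576a15684dc59e810fff51d40f64354272208b14b7225defff60858e7cc4cb08b72247f53d3fefff4dc6d208a5a14fa53a7fb42875cfff48d55f4ff85d79e7087cf11308afff81084f5d20898957c28d585484bfff7ce51e0895d253b4865215906d2fff7907cf77178370908981178379afff71680f2ce3cb08968b186713895fff10f4e26e24ca44d29691888e089fff6236a459181348b5a054c0896a4fff6126514bd6770885cf13a6505bffff24860d59961845108763e5a1690fff5246634a34105925d10875b9662fff1521f63125565135525cf5df087fff4663c008610561258560f5025d8fff65047f50e5856d275108515054efff55e4101dd21c75454228a10a085fff11e08447840848f8174e458f482fff08415e3f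e5503fc4974cf48647ffff2ce1c9751084810452595508751fff4535dc45737f2e140f08414f4e9fff4634de2172563d140e111189084fff11908351f2dc44e49a14689a20dfff08315949a6245244d85c68da106fff1ef14808369a56866218938c4cefff08220155010a5cf2808511805e6fff38c3cb41d0823b733a4494e63cdfff20831508232110e27e38a340306fff4083c94523794dc0823ca1044cffff1391a159e47351013868f08216cfff18f0420d21cd1511900f8612551fff13e1cf27111217404215a25519ffff75c1f320e0f70420f625b4d019afff4641670f555c10f0d02fc344042fff1030414a51864011543062ce59dfff4d229f6cf0413f84414e0451385fff2191d20415160c15991ae0c6610fff4160f40c375159c0411d50c715afff3bf3fe15645104155d17e46215ffff1960f33d10f20f10f004110330dfff4f84b914d0ef0c64511e60ee041fff0c70400ed0ec0eb0ea1980e90e8fff0401071034d02520e73fa15810bfff2521bd1610400e61080e50e410cfff4764370400e32ce4402c8338153fff0bf14d34b14538c0400e20e1148fff0e00df0de10b04038c0dd0dc156fff0db0da4c40d90c21010400c02fcfff1830d80d70d60d510c1c70400d4fff09418f0810c0093092000091101fff09010308f08e08d08c08b08a000fff089088087086085084083000082fff000000000000000000042041040))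
noncomputable def tJ : Tr := (.leaf (nat_lit 0x203461405585bce0154e56ae3249008628152062b1000b0802adc1e602d583300603880001e0c114f5940000280441ed402e2309297b9880584e01c80030c05a6c6000c450c0153540b2c0020000632c00b56602d34030460000030160005c9a1404027604000930160d8182011430280002b60000800014bd9c4000009000063001b080000016066c04020044f0806a0603a8c056560008040010106580000c002920303260013a300402004000c20002eb1800142000001573805839400001080600601c04480a0218d80140048800280800610000000080414830700ac03800801500b00c0001a0218002d80001887402a2488000000501000a8067000c0002a02088000c0018000a80a00800000d000540700ac5090000006018000058000100c0001602800000000000101ec700a8001403300a00001430005018000d00300080180001881400cc401400050010004000000002821800039002000143805500000000080540201005000a0000150000001800254000080018020280150000400000054800044000000082a11040400000002a01000008000a00000000000000050200000000014000139ce7398000))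
noncomputable def tQ : Tr := (.leaf (nat_lit 0x0))
noncomputable def tR : TC.WTr := (.node (.node r0 r1) (.node r2 r3))
def hl : List ℕ := [3, 4, 4, 3, 5, 6, 6, 5, 7, 8, 8, 7]
def B : List (List ℕ) := [[0, 1], [1, 0], [2, 2], [3, 4], [4, 3], [5, 6], [6, 5], [7, 8], [8, 7], [7, 7, 7], [3, 3, 3, 3], [5, 5, 5, 5], [3, 6, 3, 6, 8], [3, 5, 3, 5, 3, 5, 3, 5, 3, 5, 3, 5, 3, 5, 3, 5, 3, 5, 3, 5, 3, 5, 3, 5], [3, 5, 4, 6, 3, 5, 4, 6, 3, 5, 4, 6, 3, 5, 4, 6, 3, 5, 4, 6, 3, 5, 4, 6], [3, 6, 3, 6, 3, 6, 3, 6, 3, 6, 3, 6], [5, 3, 6, 7, 4, 8], [6, 4, 7, 4, 4, 7], [0, 0, 0, 0, 0, 0, 0], [0, 2, 0, 2, 0, 2, 4], [1, 2, 1, 1, 1, 2, 1, 1, 6], [0, 2, 0, 2, 0, 2, 0, 2, 0, 2, 0, 2, 0, 2, 0, 2, 0, 2, 0, 2, 0, 2, 0, 2], [0, 2, 1, 2, 0, 2, 1, 2], [1, 5, 1, 5, 1, 5], [0, 2, 4, 2, 1, 3], [2, 6, 2, 7, 6, 8, 4], [1, 7, 3, 1, 7, 5, 8], [2, 0, 2, 1, 5, 7, 3], [1, 5, 4, 1, 1, 4, 5], [1, 4, 1, 8, 1, 3, 6], [2, 8, 6, 3,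 2, 4, 8], [2, 4, 2, 0, 4, 1, 6], [0, 3, 5, 3, 0, 3, 5, 3], [0, 2, 7, 0, 8, 1, 8, 3]]
def subs : List (List ℕ) := [[3], [4], [5], [6], [7], [8]]
def ex : List (List ℕ) := []
def inv (x : ℕ) : ℕ := [1, 0, 2, 4, 3, 6, 5, 8, 7].getD x 0
noncomputable def rS : ℕ → ℕ := rowOf tS (nat_lit 7) (nat_lit 127) (nat_lit 120) (nat_lit 1329227995784915872903807060280344575)
noncomputable def rJ : ℕ → ℕ := rowOf tJ (nat_lit 7) (nat_lit 127) (nat_lit 55) (nat_lit 36028797018963967)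
noncomputable def C : TC.Cfg where
  S := look rS (nat_lit 12) (nat_lit 4095)
  J := look rJ (nat_lit 5) (nat_lit 31)
  Q := lookQ tQ (nat_lit 7) (nat_lit 1) (nat_lit 1)
  R := tR.get
  hl := fun x => hl.contains x
  n := (nat_lit 63)
  M := (nat_lit 63)
  top := (nat_lit 2457)
  nl := (nat_lit 9)
  need := (nat_lit 9)
  nr := (nat_lit 19)
theorem k0 : TC.chkRange C 0 1 = true := by decide +kernel
theorem rows0 : ∀ c < (0 + 1) * 64, c < C.M → TC.chkRow C c = true :=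
  TC.rows_step (TC.rows_zero C) k0
theorem main {G : Type*} [Group G] (g : ℕ → G) (hB : ∀ r ∈ B, ev g r = 1) (H : Subgroup G)
    (hH : ∀ w ∈ subs, ev g w ∈ H) :
    H.relIndex (Subgroup.closure (g '' {x | x < 9})) ≠ 0 ∧
      H.relIndex (Subgroup.closure (g '' {x | x < 9})) ≤ 63 :=
  TC.index_le C B subs ex inv hl tR.hint rfl (by decide +kernel) (by decide +kernel)
    (TC.rows_done rows0 (by decide +kernel)) g hB H hH
end H0.TCJ2p1
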